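import Groth.Agent.BigDescentSS.Nerve
import Groth.Agent.SiteBase.DerivedPrecomp
import Groth.Agent.SpObjSS.SiteLeray
import Groth.Agent.BigSiteLib.HUPull
import Groth.Agent.BigSiteLib.FppfDesc.Descent
import Mathlib.AlgebraicGeometry.Sites.MorphismProperty
import Groth.Prelude.Def_SpSeq
import Groth.Prelude.Def_EtFppf

/-!
# Descent spectral sequences on big sites, transported to the small etale sites
-/

set_option autoImplicit false

universe u

open CategoryTheory CategoryTheory.Limits Opposite Simplicial AlgebraicGeometry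

noncomputable section

namespace Groth.Agent.BigDescentSS

set_option backward.isDefEq.respectTransparency.types false

variable (K : Precoverage Scheme.{u})

/-- Sections over an object. -/
abbrev Γat {S : Scheme.{u}} (U : Over S) : BigSite.Ab K S ⥤ AddCommGrpCat.{u + 1} :=
  sheafToPresheaf _ _ ⋙ (evaluation _ AddCommGrpCat.{u + 1}).obj (op U)

/-- The constant sheaf of integers. -/
abbrev ZBig (S : Scheme.{u}) : BigSite.Ab K S :=
  (constantSheaf (QuotSh.J K S) AddCommGrpCat.{u + 1}).obj (AddCommGrpCat.of (ULift.{u + 1} ℤ))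

/-- Global sections are morphisms from the integers. -/
def globalIso (S : Scheme.{u}) : Γat K (Over.mk (𝟙 S)) ≅ SpObjSS.homFrom (ZBig K S) :=
  NatIso.ofComponents (fun F => AddEquiv.toAddCommGrpIso (X := (Γat K (Over.mk (𝟙 S))).obj F)
      (Y := (SpObjSS.homFrom (ZBig K S)).obj F)
      ((Sheaf.H.equiv₀ F (Over.mkIdTerminal (X := S))).symm.trans Abelian.Ext.addEquiv₀))
    (fun {F G} φ => by
      ext s
      exact (congrArg Abelian.Ext.addEquiv₀ (Sheaf.H.equiv₀_symm_naturality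
        (Over.mkIdTerminal (X := S)) φ s).symm).trans (Sheaf.H.addEquiv₀_map φ _))

/-- Sections over an object are global sections of the localised sheaf. -/
def localIso {S : Scheme.{u}} (U : Over S) :
    Γat K U ≅ BigSite.pullBig K U.hom AddCommGrpCat.{u + 1} ⋙ Γat K (Over.mk (𝟙 U.left)) :=
  let e : (Over.map U.hom).obj (Over.mk (𝟙 U.left)) ≅ U := Over.isoMk (Iso.refl _) (by simp)
  Functor.isoWhiskerLeft (sheafToPresheaf _ _) ((evaluation (Over S)ᵒᵖ AddCommGrpCat.{u + 1}).mapIso e.op) ≪≫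
    NatIso.ofComponents (fun _ => Iso.refl _) (fun _ => (Category.comp_id _).trans (Category.id_comp _).symm)

theorem nonempty_rightDerived_Γat {S : Scheme.{u}} (U : Over S) (F : BigSite.Ab K S) (n : ℕ) :
    Nonempty (((Γat K U).rightDerived n).obj F ≅ AddCommGrpCat.of (BigSite.HU K F n U)) :=
  ⟨((BigSiteLib.rightDerivedIso (localIso K U) n) ≪≫
      SiteBase.rightDerivedPrecompIso (BigSite.pullBig K U.hom AddCommGrpCat.{u + 1})
        (Γat K (Over.mk (𝟙 U.left))) n).app F ≪≫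
    ((BigSiteLib.rightDerivedIso (globalIso K U.left) n).app _) ≪≫
    SpObjSS.rightDerivedHomFromIso (ZBig K U.left) n _⟩

variable {X Y : Scheme.{u}} (f : X ⟶ Y)

/-- The spectral sequence of a nerve with exact rows. -/
theorem exists_ss (G : BigSite.Ab K Y)
    (hI : ∀ I : BigSite.Ab K Y, Injective I → RowExact (nerve f) (aug f) I.obj)
    (H : ℕ → AddCommGrpCat.{u + 1})
    (eH : ∀ n, Nonempty (BigSite.HU K G n (Over.mk (𝟙 Y)) ≃+ H n))
    (P : ℕ → ℕ → AddCommGrpCat.{u + 1})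
    (eP : ∀ p q, Nonempty (BigSite.HU K G q (Over.mk (powG f p)) ≃+ P p q)) :
    ∃ (E : CohomologicalSpectralSequence AddCommGrpCat.{u + 1} 1)
      (α : SpSeq.Abutment E (fun n : ℤ => if 0 ≤ n then H n.toNat else AddCommGrpCat.of PUnit.{u + 2})),
      (∀ n, α.IsFinite n) ∧ SpSeq.IsBounded E ∧
      ∀ p q : ℤ, Nonempty ((E.page 1 le_rfl).X (p, q) ≅
        (if 0 ≤ p ∧ 0 ≤ q then P p.toNat q.toNat else AddCommGrpCat.of PUnit.{u + 2})) :=
  exists_spectralSequence (nerve f) (aug f) (aug_w f) (sheafToPresheaf (QuotSh.J K Y) AddCommGrpCat.{u + 1}) hI G H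
    (fun n => ⟨(nonempty_rightDerived_Γat K _ G n).some ≪≫ (eH n).some.toAddCommGrpIso⟩)
    P (fun p q => ⟨(nonempty_rightDerived_Γat K ((nerve f) _⦋p⦌) G q).some ≪≫ (eP p q).some.toAddCommGrpIso⟩)

theorem HU_top_iso (n : ℕ) (F : EtCoh.Ab Y) :
    Nonempty (BigSite.HU Scheme.etalePrecoverage ((BigSite.piEtPull Scheme.etalePrecoverage Y).obj F) n
      (Over.mk (𝟙 Y)) ≃+ EtCoh.H Y F n) := by
  haveI := BigSiteLib.isIso_unit Y F
  obtain ⟨e⟩ := BigSiteLib.H_resEt_iso Y
    ((BigSite.pullBig Scheme.etalePrecoverage (𝟙 Y) AddCommGrpCat.{u + 1}).obj ((BigSite.piEtPull Scheme.etalePrecoverage Y).obj F)) n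
  exact ⟨e.symm.trans (((EtCoh.HF Y n).mapIso ((BigSite.resEt Scheme.etalePrecoverage Y).mapIso
    (((Scheme.etalePrecoverage.toGrothendieck).overMapPullbackId
      AddCommGrpCat.{u + 1} Y).app _) ≪≫
    (asIso ((BigSite.piEtAdj Scheme.etalePrecoverage Y).unit.app F)).symm)).addCommGroupIsoToAddEquiv)⟩

end Groth.Agent.BigDescentSS

namespace Groth.Agent.BigDescentSS

open BigSiteLib BigSiteLib.FppfDesc

variable {X Y : Scheme.{u}} (f : X ⟶ Y)

/-- Cohomology of isomorphic sheaves. -/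
def bigHIso (K : Precoverage Scheme.{u}) {S : Scheme.{u}} (n : ℕ) {A B : BigSite.Ab K S} (e : A ≅ B) :
    BigSite.H K S A n ≃+ BigSite.H K S B n :=
  (((Abelian.extFunctor.{u + 1} n).obj (op (ZBig K S))).mapIso e).addCommGroupIsoToAddEquiv

theorem HU_fppf_iso (n : ℕ) (F : EtCoh.Ab Y) :
    Nonempty (BigSite.HU Scheme.fppfPrecoverage (piFppf F) n (Over.mk f) ≃+ EtCoh.H X ((EtCoh.pull f).obj F) n) := by
  obtain ⟨e⟩ := H_iso X ((EtCoh.pull f).obj F) n
  exact ⟨((bigHIso Scheme.fppfPrecoverage n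
    ((piFppfPullIso f F).symm ≪≫ (BigSiteLib.aPullIso ((EtCoh.pull f).obj F)).symm))).trans e.symm⟩

theorem HU_fppf_top_iso (n : ℕ) (F : EtCoh.Ab Y) :
    Nonempty (BigSite.HU Scheme.fppfPrecoverage (piFppf F) n (Over.mk (𝟙 Y)) ≃+ EtCoh.H Y F n) := by
  obtain ⟨e⟩ := H_iso Y F n
  exact ⟨((bigHIso Scheme.fppfPrecoverage n
    ((((Scheme.fppfPrecoverage.toGrothendieck).overMapPullbackId AddCommGrpCat.{u + 1} Y).app (piFppf F)) ≪≫
      (BigSiteLib.aPullIso F).symm))).trans e.symm⟩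

theorem aug_mem_fppf [Flat f] [LocallyOfFinitePresentation f] [Surjective f] :
    Sieve.generate (Presieve.singleton (aug f)) ∈ QuotSh.J Scheme.fppfPrecoverage Y (Over.mk (𝟙 Y)) := by
  have e : powG f 0 = prj f 0 ≫ f := (prj_w f 0).symm
  let i : X ⟶ powX f 0 := WidePullback.lift f (fun _ => 𝟙 X) fun _ => Category.id_comp f
  have hi : i ≫ powG f 0 = f := WidePullback.lift_base (arrows := fun _ : Fin 1 => f) f (fun _ => 𝟙 X) fun _ => Category.id_comp f
  let π : Over.mk f ⟶ Over.mk (𝟙 Y) := Over.homMk f (Category.comp_id f)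
  let T : Over Y := Over.mk (f ≫ (Over.mk (𝟙 Y)).hom)
  have hw : i ≫ powG f 0 = T.hom := hi.trans (Category.comp_id f).symm
  let j : T ⟶ (nerve f) _⦋0⦌ := Over.homMk i hw
  rw [GrothendieckTopology.mem_over_iff]
  have hm : Presieve.singleton f ∈ Scheme.fppfPrecoverage Y :=
    (Scheme.singleton_mem_precoverage_iff _ _).2 ⟨f.surjective, ⟨inferInstance, inferInstance⟩⟩
  refine Scheme.fppfPrecoverage.toGrothendieck.superset_covering ?_ (Precoverage.generate_mem_toGrothendieck hm)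
  rw [Sieve.generate_le_iff]
  rintro _ _ ⟨⟩
  rw [Sieve.overEquiv_iff]
  exact ⟨(nerve f) _⦋0⦌, j, aug f, ⟨⟩, Over.OverMorphism.ext hi⟩

end Groth.Agent.BigDescentSS
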