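import Groth.Agent.HyperLib.Cochain
import Groth.Agent.HyperLib.Site
import Mathlib.CategoryTheory.Category.ULift
import Mathlib.CategoryTheory.Sites.Equivalence

/-!
# Cech complexes of hypercoverings on a site whose objects form a larger type

A category with objects in `Type (u + 1)` and morphisms in `Type u` is replaced by the equivalent
small category obtained by lifting its morphisms.
-/

set_option autoImplicit false
set_option linter.style.haveILetI false
set_option backward.isDefEq.respectTransparency false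
set_option backward.isDefEq.respectTransparency.types false

universe u

open CategoryTheory CategoryTheory.Limits Opposite Simplicial AlgebraicTopology

noncomputable section

namespace Groth.Agent.BigDescentSS

variable {C : Type (u + 1)} [Category.{u} C]

/-- Boundaries in degree `n` can be filled locally. -/
def FillsBig (J : GrothendieckTopology C) (K : SimplicialObject C) (n : ℕ) : Prop :=
  ∀ (U : C) (y : Fin (n + 2) → (U ⟶ K _⦋n⦌)), HyperLib.IsBdry K n U y →
    ∃ S : Sieve U, S ∈ J U ∧ ∀ ⦃V : C⦄ (g : V ⟶ U), S g →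
      ∃ x : V ⟶ K _⦋n + 1⦌, ∀ i, x ≫ K.δ i = g ≫ y i

/-- The functor to the small model. -/
abbrev upS : C ⥤ AsSmall.{u + 1} C := AsSmall.up

/-- The underlying object. -/
abbrev objS (U : AsSmall.{u + 1} C) : C := ULift.down U

/-- The simplicial semi-representable object of the small model. -/
abbrev smallSR (K : SimplicialObject C) :
    SimplicialObject (FormalCoproduct.{u + 1} (AsSmall.{u + 1} C)) :=
  K ⋙ upS ⋙ FormalCoproduct.incl (AsSmall.{u + 1} C)

/-- A morphism between objects of the small model as a morphism of the category. -/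
def preS {U : AsSmall.{u + 1} C} {W : C}
    (f : (FormalCoproduct.incl (AsSmall.{u + 1} C)).obj U ⟶
      (FormalCoproduct.incl (AsSmall.{u + 1} C)).obj (upS.obj W)) : objS U ⟶ W :=
  ((FormalCoproduct.fullyFaithfulIncl (C := AsSmall.{u + 1} C)).preimage f).down

/-- The topology of the small model. -/
abbrev smallTop (J : GrothendieckTopology C) : GrothendieckTopology (AsSmall.{u + 1} C) :=
  (AsSmall.equiv : C ≌ AsSmall.{u + 1} C).inverse.inducedTopology J

theorem mem_smallTop (J : GrothendieckTopology C) {U : AsSmall.{u + 1} C} (S : Sieve U)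
    {R : Sieve (objS U)} (hR : R ∈ J (objS U))
    (h : ∀ ⦃V : C⦄ (g : V ⟶ (objS U)), R g → S (ULift.up g : (upS (C := C)).obj V ⟶ U)) :
    S ∈ smallTop J U := by
  rw [Functor.mem_inducedTopology_iff_of_isCoverDense]
  refine J.superset_covering ?_ hR
  intro V g hg
  exact ⟨(upS (C := C)).obj V, ULift.up g, 𝟙 V, h g hg, (Category.id_comp g).symm⟩

theorem isLocTrivial_smallSR (J : GrothendieckTopology C) (K : SimplicialObject C)
    (h0 : ∀ U : C, ∃ S : Sieve U, S ∈ J U ∧ ∀ ⦃V : C⦄ (g : V ⟶ U), S g → Nonempty (V ⟶ K _⦋0⦌))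
    (hf : ∀ n, FillsBig J K n) : HyperLib.IsLocTrivial (smallTop J) (smallSR K) := by
  refine ⟨fun U => ?_, fun n U y hy => ?_⟩
  · obtain ⟨S, hS, h⟩ := h0 (objS U)
    refine mem_smallTop J _ hS fun V g hg => ?_
    obtain ⟨x⟩ := h g hg
    exact ⟨(FormalCoproduct.incl (AsSmall.{u + 1} C)).map
      (ULift.up x : (upS (C := C)).obj V ⟶ (upS (C := C)).obj (K _⦋0⦌))⟩
  · let y' : Fin (n + 2) → ((objS U) ⟶ K _⦋n⦌) := fun i => (FormalCoproduct.Hom.φ (y i) PUnit.unit).down
    have hy' : HyperLib.IsBdry K n (objS U) y' := fun Δ hΔ φ ψ a b e => by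
      exact congrArg (preS (W := K.obj (op Δ))) (hy hΔ φ ψ a b e)
    obtain ⟨S, hS, h⟩ := hf n (objS U) y' hy'
    let S' : Sieve U :=
      { arrows := fun V g => S g.down
        downward_closed := fun {V W g} hg k => S.downward_closed hg k.down }
    refine ⟨S', mem_smallTop J _ hS fun V g hg => hg, fun V g hg => ?_⟩
    obtain ⟨x, hx⟩ := h g.down hg
    refine ⟨(FormalCoproduct.incl (AsSmall.{u + 1} C)).map
      (ULift.up x : V ⟶ (upS (C := C)).obj (K _⦋n + 1⦌)), fun i => ?_⟩
    refine Eq.trans (b := (FormalCoproduct.incl (AsSmall.{u + 1} C)).map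
      (ULift.up (g.down ≫ y' i) : V ⟶ (upS (C := C)).obj (K _⦋n⦌))) ?_ ?_
    · exact (((FormalCoproduct.incl (AsSmall.{u + 1} C)).map_comp _ _).symm.trans
        (congrArg (fun t => (FormalCoproduct.incl (AsSmall.{u + 1} C)).map t) (ULift.ext _ _ (hx i))))
    · rfl

/-- Cech cochains of the small model are cochains of the simplicial object. -/
def cechSmallIso (K : SimplicialObject C) (P : Cᵒᵖ ⥤ AddCommGrpCat.{u + 1}) :
    Hyper.cechCxSite (smallSR K) ((AsSmall.equiv : C ≌ AsSmall.{u + 1} C).inverse.op ⋙ P) ≅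
      (alternatingCofaceMapComplex AddCommGrpCat.{u + 1}).obj (K.rightOp ⋙ P) :=
  (alternatingCofaceMapComplex AddCommGrpCat.{u + 1}).mapIso
    (Functor.isoWhiskerLeft (K ⋙ upS).rightOp
      ((FormalCoproduct.evalOpCompInlIsoId (AsSmall.{u + 1} C) AddCommGrpCat.{u + 1}).app
        ((AsSmall.equiv : C ≌ AsSmall.{u + 1} C).inverse.op ⋙ P)))

/-- The Cech complex of an injective sheaf for a hypercovering is exact in positive degrees. -/
theorem exactAt_hypercovering (J : GrothendieckTopology C) (K : SimplicialObject C)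
    (h0 : ∀ U : C, ∃ S : Sieve U, S ∈ J U ∧ ∀ ⦃V : C⦄ (g : V ⟶ U), S g → Nonempty (V ⟶ K _⦋0⦌))
    (hf : ∀ n, FillsBig J K n) (I : Sheaf J AddCommGrpCat.{u + 1}) [Injective I] (p : ℕ) :
    ((alternatingCofaceMapComplex AddCommGrpCat.{u + 1}).obj (K.rightOp ⋙ I.obj)).ExactAt (p + 1) := by
  let E := (AsSmall.equiv : C ≌ AsSmall.{u + 1} C).sheafCongr J (smallTop J) AddCommGrpCat.{u + 1}
  haveI : Injective (E.functor.obj I) := Injective.injective_of_adjoint E.symm.toAdjunction I
  rw [HomologicalComplex.exactAt_iff_isZero_homology]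
  exact (HyperLib.isZero_homology_cechCxSite (smallSR K) (isLocTrivial_smallSR J K h0 hf)
    (E.functor.obj I) p).of_iso
    ((HomologicalComplex.homologyFunctor _ _ (p + 1)).mapIso (cechSmallIso K I.obj)).symm

end Groth.Agent.BigDescentSS
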