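import Groth.Agent.BigDescentSS.Ph
import Groth.Agent.BigDescentSS.HyperSmall
import Mathlib.CategoryTheory.Limits.Over
import Mathlib.AlgebraicGeometry.Limits

/-!
# Descent spectral sequence of a proper hypercovering for torsion sheaves
-/

set_option autoImplicit false
set_option linter.style.haveILetI false
set_option backward.isDefEq.respectTransparency false
set_option backward.isDefEq.respectTransparency.types false

universe u

open CategoryTheory CategoryTheory.Limits Opposite Simplicial AlgebraicGeometry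

noncomputable section

namespace Groth.Agent.BigDescentSS

variable {Y : Scheme.{u}}

instance hasColimitsOfShape_discrete_over (α : Type) : HasColimitsOfShape (Discrete α) (Over Y) :=
  haveI : HasColimitsOfShape (Discrete α) Scheme.{u} :=
    hasColimitsOfShape_of_equivalence (Discrete.equivalence (Equiv.ulift.{u}))
  inferInstance

theorem mem_ph_of_proper {A B : Scheme.{u}} (f : A ⟶ B) [IsProper f] [Surjective f] :
    Sieve.generate (Presieve.singleton f) ∈ HTop.phPrecoverage.toGrothendieck B := by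
  refine Precoverage.generate_mem_toGrothendieck ?_
  rw [← PreZeroHypercover.presieve₀_singleton f]
  exact (HTop.presieve₀_mem_phPrecoverage_iff _).2 (HTopCov.isPhCover_of_proper.{0} f)

/-- A sieve containing the base change of a proper surjective morphism covers in the ph topology. -/
theorem mem_phOver_of_proper {U : Over Y} {A : Scheme.{u}} (p : A ⟶ U.left) [IsProper p] [Surjective p]
    (S : Sieve U) (h : S (Over.homMk p rfl : Over.mk (p ≫ U.hom) ⟶ U)) :
    S ∈ QuotSh.J HTop.phPrecoverage Y U := by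
  rw [GrothendieckTopology.mem_over_iff]
  refine HTop.phPrecoverage.toGrothendieck.superset_covering ?_ (mem_ph_of_proper p)
  rw [Sieve.generate_le_iff]
  rintro _ _ ⟨⟩
  rw [Sieve.overEquiv_iff]
  exact h

variable (K : SimplicialObject (Over Y))

theorem exists_lift_zero [IsProper (K.obj (op (SimplexCategory.mk 0))).hom]
    [Surjective (K.obj (op (SimplexCategory.mk 0))).hom] (U : Over Y) :
    ∃ S : Sieve U, S ∈ QuotSh.J HTop.phPrecoverage Y U ∧ ∀ ⦃V : Over Y⦄ (g : V ⟶ U), S g →
      Nonempty (V ⟶ K _⦋0⦌) := by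
  let p := pullback.fst U.hom (K _⦋0⦌).hom
  haveI : IsProper p := MorphismProperty.pullback_fst (P := @IsProper) _ _ ‹_›
  haveI : Surjective p := MorphismProperty.pullback_fst (P := @Surjective) _ _ ‹_›
  refine ⟨{ arrows := fun V _ => Nonempty (V ⟶ K _⦋0⦌)
            downward_closed := fun {V W g} hg k => hg.map fun x => k ≫ x },
    mem_phOver_of_proper p _ ⟨Over.homMk (pullback.snd U.hom (K _⦋0⦌).hom) pullback.condition.symm⟩,
    fun V g hg => hg⟩

variable [∀ (n : ℕ) (G : (SimplexCategory.Truncated n)ᵒᵖ ⥤ Over Y),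
  (SimplexCategory.Truncated.inclusion n).op.HasRightKanExtension G]

theorem fillsBig_of_proper (n : ℕ)
    [IsProper (((SimplicialObject.coskAdj n).unit.app K).app (op (SimplexCategory.mk (n + 1)))).left]
    [Surjective (((SimplicialObject.coskAdj n).unit.app K).app (op (SimplexCategory.mk (n + 1)))).left] :
    FillsBig (QuotSh.J HTop.phPrecoverage Y) K n := by
  intro U y hy
  obtain ⟨z, hz⟩ := HyperLib.exists_bd K y hy
  let η := ((SimplicialObject.coskAdj n).unit.app K).app (op (SimplexCategory.mk (n + 1)))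
  let p := pullback.fst z.left η.left
  haveI : IsProper p := MorphismProperty.pullback_fst (P := @IsProper) _ _ ‹_›
  haveI : Surjective p := MorphismProperty.pullback_fst (P := @Surjective) _ _ ‹_›
  refine ⟨{ arrows := fun V g => ∃ x : V ⟶ K _⦋n + 1⦌, x ≫ η = g ≫ z
            downward_closed := fun {V W g} hg k => by
              obtain ⟨x, hx⟩ := hg
              exact ⟨k ≫ x, by rw [Category.assoc, hx, ← Category.assoc]⟩ },
    mem_phOver_of_proper p _ ?_, fun V g hg => ?_⟩
  · have hw : pullback.snd z.left η.left ≫ (K _⦋n + 1⦌).hom = p ≫ U.hom := by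
      refine (congrArg (pullback.snd z.left η.left ≫ ·) (Over.w η).symm).trans ?_
      refine (Category.assoc _ _ _).symm.trans ((congrArg (· ≫ _) pullback.condition.symm).trans ?_)
      exact (Category.assoc _ _ _).trans (congrArg (p ≫ ·) (Over.w z))
    exact ⟨Over.homMk (pullback.snd z.left η.left) hw, Over.OverMorphism.ext pullback.condition.symm⟩
  · obtain ⟨x, hx⟩ := hg
    refine ⟨x, fun i => ?_⟩
    exact (HyperLib.bd_unit K x i).symm.trans ((congrArg (fun w => HyperLib.bd K w i) hx).trans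
      ((HyperLib.bd_comp K g z i).trans (congrArg (g ≫ ·) (hz i))))

end Groth.Agent.BigDescentSS

namespace Groth.Agent.BigDescentSS

variable {Y : Scheme.{u}} (K : SimplicialObject (Over Y))

theorem isBdry_pair {U : Over Y} (y : Fin 2 → (U ⟶ K _⦋0⦌)) : HyperLib.IsBdry K 0 U y := by
  intro Δ hΔ φ ψ a b e
  obtain rfl : φ = ψ := SimplexCategory.Hom.ext _ _
    (OrderHom.ext _ _ (funext fun _ => Subsingleton.elim (α := Fin 1) _ _))
  have : a = b := by
    have e' := congrArg (fun f : Δ ⟶ ⦋1⦌ => f.toOrderHom 0) e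
    have h0 : φ.toOrderHom 0 = 0 := Subsingleton.elim (α := Fin 1) _ _
    simp only [SimplexCategory.comp_toOrderHom, OrderHom.comp_coe, Function.comp_apply, h0] at e'
    revert e'
    fin_cases a <;> fin_cases b <;> decide
  rw [this]

/-- The augmentation of a simplicial object over the base. -/
def augOver : K _⦋0⦌ ⟶ Over.mk (𝟙 Y) := Over.homMk (K _⦋0⦌).hom (Category.comp_id _)

/-- Rows of injective sheaves for a hypercovering are exact. -/
theorem rowExact_of_hypercovering (J : GrothendieckTopology (Over Y))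
    (h0 : ∀ U : Over Y, ∃ S : Sieve U, S ∈ J U ∧ ∀ ⦃V : Over Y⦄ (g : V ⟶ U), S g → Nonempty (V ⟶ K _⦋0⦌))
    (hf : ∀ n, FillsBig J K n) (I : Sheaf J AddCommGrpCat.{u + 1}) [Injective I] :
    RowExact K (augOver K) I.obj := by
  have hI : Presieve.IsSheaf J (I.obj ⋙ forget AddCommGrpCat.{u + 1}) :=
    (isSheaf_iff_isSheaf_of_type _ _).1 ((sheafCompose J (forget AddCommGrpCat.{u + 1})).obj I).2
  have hc : Sieve.generate (Presieve.singleton (augOver K)) ∈ J (Over.mk (𝟙 Y)) := by
    obtain ⟨S, hS, h⟩ := h0 (Over.mk (𝟙 Y))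
    refine J.superset_covering ?_ hS
    intro V g hg
    obtain ⟨x⟩ := h g hg
    exact ⟨_, x, augOver K, ⟨⟩, hom_ext_base _ _⟩
  have hsh : Presieve.IsSheafFor (I.obj ⋙ forget AddCommGrpCat.{u + 1}) (Presieve.singleton (augOver K)) :=
    (Presieve.isSheafFor_iff_generate _).2 (hI _ hc)
  refine ⟨fun p => exactAt_hypercovering J K h0 hf I p,
    Presieve.isSeparatedFor_singleton.mp hsh.isSeparatedFor, fun x hx => ?_⟩
  obtain ⟨y, hy, -⟩ := Presieve.isSheafFor_singleton.mp hsh x fun {T} p₁ p₂ _ => by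
    obtain ⟨S, hS, h⟩ := hf 0 T ![p₂, p₁] (isBdry_pair K _)
    refine (hI S hS).isSeparatedFor.ext fun V g hg => ?_
    obtain ⟨w, hw⟩ := h g hg
    have e₁ : w ≫ K.δ (0 : Fin 2) = g ≫ p₂ := hw 0
    have e₂ : w ≫ K.δ (1 : Fin 2) = g ≫ p₁ := hw 1
    let Q := I.obj ⋙ forget AddCommGrpCat.{u + 1}
    have hmap : ∀ {A B D : Over Y} (a : A ⟶ B) (b : B ⟶ D) (t : Q.obj (op D)),
        Q.map (a ≫ b).op t = Q.map a.op (Q.map b.op t) := fun a b t =>
      ConcreteCategory.congr_hom (Q.map_comp b.op a.op) t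
    show Q.map g.op (Q.map p₁.op x) = Q.map g.op (Q.map p₂.op x)
    rw [← hmap, ← hmap, ← e₁, ← e₂, hmap, hmap]
    exact congrArg (Q.map w.op) hx.symm
  exact ⟨y, hy⟩

/-- The spectral sequence of a simplicial object with exact rows on injective sheaves. -/
theorem exists_ss_simplicial (T : Precoverage Scheme.{u}) (G : BigSite.Ab T Y)
    (hI : ∀ I : BigSite.Ab T Y, Injective I → RowExact K (augOver K) I.obj)
    (H : ℕ → AddCommGrpCat.{u + 1})
    (eH : ∀ n, Nonempty (BigSite.HU T G n (Over.mk (𝟙 Y)) ≃+ H n))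
    (P : ℕ → ℕ → AddCommGrpCat.{u + 1})
    (eP : ∀ p q, Nonempty (BigSite.HU T G q (K _⦋p⦌) ≃+ P p q)) :
    ∃ (E : CohomologicalSpectralSequence AddCommGrpCat.{u + 1} 1)
      (α : SpSeq.Abutment E (fun n : ℤ => if 0 ≤ n then H n.toNat else AddCommGrpCat.of PUnit.{u + 2})),
      (∀ n, α.IsFinite n) ∧ SpSeq.IsBounded E ∧
      ∀ p q : ℤ, Nonempty ((E.page 1 le_rfl).X (p, q) ≅
        (if 0 ≤ p ∧ 0 ≤ q then P p.toNat q.toNat else AddCommGrpCat.of PUnit.{u + 2})) :=
  exists_spectralSequence K (augOver K) (hom_ext_base _ _) (sheafToPresheaf (QuotSh.J T Y) AddCommGrpCat.{u + 1})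
    hI G H (fun n => ⟨(nonempty_rightDerived_Γat T _ G n).some ≪≫ (eH n).some.toAddCommGrpIso⟩)
    P (fun p q => ⟨(nonempty_rightDerived_Γat T (K _⦋p⦌) G q).some ≪≫ (eP p q).some.toAddCommGrpIso⟩)

end Groth.Agent.BigDescentSS
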