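import Groth.Agent.BigDescentSS.Engine
import Groth.Agent.HomShExact.InjOver
import Mathlib.AlgebraicGeometry.Limits
import Mathlib.CategoryTheory.Limits.Shapes.WidePullbacks
import Mathlib.CategoryTheory.Sites.IsSheafFor
import Mathlib.CategoryTheory.Comma.Over.Basic

/-!
# The nerve of a morphism in a slice category, and exactness of its rows on injective sheaves
-/

set_option autoImplicit false

universe u

open CategoryTheory CategoryTheory.Limits Opposite Simplicial AlgebraicGeometry

noncomputable section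

namespace Groth.Agent.BigDescentSS

variable {X Y : Scheme.{u}} (f : X ⟶ Y)

/-- The fibre powers. -/
abbrev powX (p : ℕ) : Scheme.{u} := widePullback Y (fun _ : Fin (p + 1) => X) (fun _ => f)

/-- Their structure maps. -/
abbrev powG (p : ℕ) : powX f p ⟶ Y := WidePullback.base (fun _ : Fin (p + 1) => f)

/-- Projection. -/
abbrev prj {p : ℕ} (i : Fin (p + 1)) : powX f p ⟶ X := WidePullback.π (fun _ : Fin (p + 1) => f) i

/-- The map into a fibre power with given coordinates. -/
def intoPow {T : Over Y} {p : ℕ} (t : Fin (p + 1) → (T.left ⟶ X)) (ht : ∀ i, t i ≫ f = T.hom) :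
    T ⟶ Over.mk (powG f p) :=
  Over.homMk (WidePullback.lift T.hom t ht)
    (WidePullback.lift_base (arrows := fun _ : Fin (p + 1) => f) T.hom t ht)

lemma intoPow_prj {T : Over Y} {p : ℕ} (t : Fin (p + 1) → (T.left ⟶ X)) (ht : ∀ i, t i ≫ f = T.hom)
    (i : Fin (p + 1)) : (intoPow f t ht).left ≫ prj f i = t i :=
  WidePullback.lift_π (arrows := fun _ : Fin (p + 1) => f) T.hom t ht i

lemma prj_w {p : ℕ} (i : Fin (p + 1)) : prj f i ≫ f = powG f p :=
  WidePullback.π_arrow (fun _ : Fin (p + 1) => f) i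

lemma coord_w {T : Over Y} {p : ℕ} (t : T ⟶ Over.mk (powG f p)) (i : Fin (p + 1)) :
    (t.left ≫ prj f i) ≫ f = T.hom := by
  rw [Category.assoc, prj_w]
  exact Over.w t

lemma hom_ext_pow {T : Over Y} {p : ℕ} {s t : T ⟶ Over.mk (powG f p)}
    (h : ∀ i, s.left ≫ prj f i = t.left ≫ prj f i) : s = t :=
  Over.OverMorphism.ext (WidePullback.hom_ext (arrows := fun _ : Fin (p + 1) => f) s.left t.left h
    ((Over.w s).trans (Over.w t).symm))

/-- Reindexing. -/
def reidx {m n : ℕ} (φ : Fin (m + 1) → Fin (n + 1)) : Over.mk (powG f n) ⟶ Over.mk (powG f m) :=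
  intoPow f (T := Over.mk (powG f n)) (fun i => prj f (φ i)) fun i => prj_w f (φ i)

lemma reidx_prj {m n : ℕ} (φ : Fin (m + 1) → Fin (n + 1)) (i : Fin (m + 1)) :
    (reidx f φ).left ≫ prj f i = prj f (φ i) :=
  intoPow_prj f _ _ i

/-- The nerve. -/
def nerve : SimplicialObject (Over Y) where
  obj n := Over.mk (powG f n.unop.len)
  map φ := reidx f φ.unop.toOrderHom
  map_id n := hom_ext_pow f fun i => (reidx_prj f _ i).trans (Category.id_comp _).symm
  map_comp φ ψ := hom_ext_pow f fun i => by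
    refine (reidx_prj f _ i).trans ?_
    rw [Over.comp_left, Category.assoc, reidx_prj f ψ.unop.toOrderHom i, reidx_prj f φ.unop.toOrderHom _]
    rfl

lemma nerve_δ_prj {p : ℕ} (i : Fin (p + 2)) (k : Fin (p + 1)) :
    ((nerve f).δ i).left ≫ prj f k = prj f (i.succAbove k) :=
  reidx_prj f _ k

/-- The augmentation. -/
def aug : (nerve f) _⦋0⦌ ⟶ Over.mk (𝟙 Y) :=
  Over.homMk (powG f 0) (Category.comp_id _)

lemma hom_ext_base {T : Over Y} (s t : T ⟶ Over.mk (𝟙 Y)) : s = t :=
  Over.OverMorphism.ext ((Category.comp_id _).symm.trans ((Over.w s).trans ((Over.w t).symm.trans (Category.comp_id _))))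

lemma aug_w : (nerve f).δ (0 : Fin 2) ≫ aug f = (nerve f).δ (1 : Fin 2) ≫ aug f := hom_ext_base _ _

/-- A section makes all rows exact. -/
theorem rowExact_of_section (s : Y ⟶ X) (hs : s ≫ f = 𝟙 Y) (P : (Over Y)ᵒᵖ ⥤ AddCommGrpCat.{u + 1}) :
    RowExact (nerve f) (aug f) P := by
  let h : ∀ p : ℕ, (nerve f) _⦋p⦌ ⟶ (nerve f) _⦋p + 1⦌ := fun p =>
    intoPow f (T := Over.mk (powG f p)) (Fin.cons (powG f p ≫ s) fun i => prj f i) fun i => by
      induction i using Fin.cases with
      | zero => simp [Category.assoc, hs]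
      | succ i => exact prj_w f i
  have hh : ∀ (p : ℕ) (i : Fin (p + 2)), (h p).left ≫ prj f i =
      (Fin.cons (powG f p ≫ s) (fun i => prj f i) : Fin (p + 2) → (powX f p ⟶ X)) i :=
    fun p i => intoPow_prj f _ _ i
  refine rowExact_of_contraction (nerve f) (aug f) P h
    (intoPow f (T := Over.mk (𝟙 Y)) (fun _ => s) fun _ => hs) (hom_ext_base _ _)
    (fun p => hom_ext_pow f fun i => ?_) (hom_ext_pow f fun i => ?_) (fun p j => hom_ext_pow f fun i => ?_)
  · refine (Category.assoc _ _ _).trans ?_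
    refine (congrArg ((h p).left ≫ ·) (nerve_δ_prj f 0 i)).trans ((hh p _).trans ?_)
    rw [Fin.succAbove_zero, Fin.cons_succ]
    exact (Category.id_comp _).symm
  · refine (Category.assoc _ _ _).trans ?_
    refine (congrArg ((h 0).left ≫ ·) (nerve_δ_prj f 1 i)).trans ((hh 0 _).trans ?_)
    rw [show (1 : Fin 2).succAbove i = 0 by fin_cases i; rfl, Fin.cons_zero]
    refine Eq.trans ?_ (Category.assoc _ _ _).symm
    exact congrArg (powG f 0 ≫ ·) (intoPow_prj f (T := Over.mk (𝟙 Y)) (fun _ => s) (fun _ => hs) i).symm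
  · refine (Category.assoc _ _ _).trans (Eq.trans ?_ (Category.assoc _ _ _).symm)
    refine (congrArg ((h (p + 1)).left ≫ ·) (nerve_δ_prj f j.succ i)).trans ((hh (p + 1) _).trans ?_)
    refine Eq.trans ?_ (congrArg (((nerve f).δ j).left ≫ ·) (hh p i)).symm
    induction i using Fin.cases with
    | zero =>
      rw [Fin.succ_succAbove_zero, Fin.cons_zero, Fin.cons_zero]
      exact ((Category.assoc _ _ _).symm.trans (congrArg (· ≫ s) (Over.w ((nerve f).δ j)))).symm
    | succ i =>
      rw [Fin.succ_succAbove_succ, Fin.cons_succ, Fin.cons_succ]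
      exact (nerve_δ_prj f j i).symm

section Cofree

open Groth.Agent.HomShExact

variable (Q : Over Y → AddCommGrpCat.{u + 1})

/-- Rows of cofree presheaves are exact in positive degrees. -/
theorem exactAt_cx_cofreeFam (p : ℕ) : ((cx (nerve f)).obj (cofreeFam Q)).ExactAt (p + 1) := by
  classical
  rw [HomologicalComplex.exactAt_iff' _ p (p + 1) (p + 1 + 1) (by simp) (by simp), ShortComplex.ab_exact_iff]
  intro (x : ∀ T : Over Y, (T ⟶ (nerve f) _⦋p + 1⦌) → Q T) hx
  change (((cx (nerve f)).obj (cofreeFam Q)).d (p + 1) (p + 1 + 1)).hom x = 0 at hx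
  have hlift : ∀ (T : Over Y) (n : ℕ), (T ⟶ (nerve f) _⦋n⦌) → ∃ l : T.left ⟶ X, l ≫ f = T.hom :=
    fun T n t => ⟨t.left ≫ prj f 0, coord_w f t 0⟩
  let cone : ∀ (T : Over Y) (n : ℕ), (T ⟶ (nerve f) _⦋n⦌) → (T ⟶ (nerve f) _⦋n + 1⦌) := fun T n t =>
    if hl : ∃ l : T.left ⟶ X, l ≫ f = T.hom then
      intoPow f (Fin.cons hl.choose fun i => t.left ≫ prj f i) fun i => by
        induction i using Fin.cases with
        | zero => exact hl.choose_spec
        | succ i => exact coord_w f t i
    else absurd (hlift T n t) hl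
  have hcone : ∀ (T : Over Y) (hl : ∃ l : T.left ⟶ X, l ≫ f = T.hom) (n : ℕ) (t : T ⟶ (nerve f) _⦋n⦌)
      (i : Fin (n + 2)), (cone T n t).left ≫ prj f i =
        (Fin.cons hl.choose (fun i => t.left ≫ prj f i) : Fin (n + 2) → (T.left ⟶ X)) i := by
    intro T hl n t i
    have e : cone T n t = intoPow f (Fin.cons hl.choose fun i => t.left ≫ prj f i) (fun i => by
        induction i using Fin.cases with
        | zero => exact hl.choose_spec
        | succ i => exact coord_w f t i) := dif_pos hl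
    rw [e]
    exact intoPow_prj f _ _ i
  let y : ∀ T : Over Y, (T ⟶ (nerve f) _⦋p⦌) → Q T := fun T t => x T (cone T p t)
  refine ⟨y, ?_⟩
  refine funext₂ fun T t => ?_
  have hl := hlift T _ t
  have h0 : cone T (p + 1) t ≫ (nerve f).δ (0 : Fin (p + 3)) = t := hom_ext_pow f fun i => by
    refine (Category.assoc _ _ _).trans ?_
    refine (congrArg ((cone T (p + 1) t).left ≫ ·) (nerve_δ_prj f 0 i)).trans ((hcone T hl _ t _).trans ?_)
    rw [Fin.succAbove_zero, Fin.cons_succ]
    rfl
  have hs : ∀ j : Fin (p + 2), cone T (p + 1) t ≫ (nerve f).δ j.succ = cone T p (t ≫ (nerve f).δ j) :=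
    fun j => hom_ext_pow f fun i => by
      refine (Category.assoc _ _ _).trans ?_
      refine (congrArg ((cone T (p + 1) t).left ≫ ·) (nerve_δ_prj f j.succ i)).trans ((hcone T hl _ t _).trans ?_)
      refine Eq.trans ?_ (hcone T hl p _ i).symm
      induction i using Fin.cases with
      | zero => rw [Fin.succ_succAbove_zero, Fin.cons_zero, Fin.cons_zero]
      | succ i =>
        rw [Fin.succ_succAbove_succ, Fin.cons_succ, Fin.cons_succ]
        refine Eq.trans ?_ (Category.assoc _ _ _).symm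
        exact (congrArg (t.left ≫ ·) (nerve_δ_prj f j i)).symm
  have key : ∀ (n : ℕ) (z : ∀ T : Over Y, (T ⟶ (nerve f) _⦋n⦌) → Q T) (t : T ⟶ (nerve f) _⦋n + 1⦌),
      (((cx (nerve f)).obj (cofreeFam Q)).d n (n + 1)).hom z T t =
        ∑ i : Fin (n + 2), (-1 : ℤ) ^ (i : ℕ) • z T (t ≫ (nerve f).δ i) := by
    intro n z t
    refine (congrFun (congrFun (cx_d_apply (nerve f) (cofreeFam Q) n z) T) t).trans ?_
    let ev : (∀ T' : Over Y, (T' ⟶ (nerve f) _⦋n + 1⦌) → Q T') →+ Q T :=
      AddMonoidHom.mk' (fun w => w T t) (fun _ _ => rfl)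
    refine (map_sum ev (fun i : Fin (n + 2) => ((-1 : ℤ) ^ (i : ℕ) •
      ((cofreeFam Q).map ((nerve f).δ i).op).hom z : ∀ T' : Over Y, (T' ⟶ (nerve f) _⦋n + 1⦌) → Q T'))
      Finset.univ).trans ?_
    exact Finset.sum_congr rfl fun i _ => rfl
  show (((cx (nerve f)).obj (cofreeFam Q)).d p (p + 1)).hom y T t = x T t
  have hx' : (((cx (nerve f)).obj (cofreeFam Q)).d (p + 1) (p + 1 + 1)).hom x T (cone T (p + 1) t) = 0 :=
    congrFun (congrFun hx T) _
  rw [key, Fin.sum_univ_succ] at hx'
  simp only [Fin.val_zero, pow_zero, one_smul, h0, hs, Fin.val_succ, pow_succ, mul_neg, mul_one, neg_smul,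
    Finset.sum_neg_distrib] at hx'
  rw [key]
  exact (add_neg_eq_zero.1 hx').symm

/-- Rows of injective presheaves are exact in positive degrees. -/
theorem exactAt_cx_injective (P : (Over Y)ᵒᵖ ⥤ AddCommGrpCat.{u + 1}) [Injective P] (p : ℕ) :
    ((cx (nerve f)).obj P).ExactAt (p + 1) := by
  obtain ⟨Q, -, i, r, hir⟩ := exists_retract_cofreeFam P
  have h := (HomologicalComplex.exactAt_iff_isZero_homology _ _).1 (exactAt_cx_cofreeFam f Q p)
  rw [HomologicalComplex.exactAt_iff_isZero_homology]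
  have e : HomologicalComplex.homologyMap ((cx (nerve f)).map i) (p + 1) ≫
      HomologicalComplex.homologyMap ((cx (nerve f)).map r) (p + 1) = 𝟙 _ := by
    rw [← HomologicalComplex.homologyMap_comp, ← Functor.map_comp, hir, CategoryTheory.Functor.map_id,
      HomologicalComplex.homologyMap_id]
  haveI : Mono (HomologicalComplex.homologyMap ((cx (nerve f)).map i) (p + 1)) := (SplitMono.mk _ e).mono
  refine IsZero.of_mono (HomologicalComplex.homologyMap ((cx (nerve f)).map i) (p + 1)) h

/-- Over a covering, rows of injective sheaves are exact. -/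
theorem rowExact_of_covering (J : GrothendieckTopology (Over Y)) [HasSheafify J AddCommGrpCat.{u + 1}]
    (hc : Sieve.generate (Presieve.singleton (aug f)) ∈ J (Over.mk (𝟙 Y)))
    (I : Sheaf J AddCommGrpCat.{u + 1}) [Injective I] : RowExact (nerve f) (aug f) I.obj := by
  have : Injective I.obj :=
    Injective.injective_of_adjoint (sheafificationAdjunction J AddCommGrpCat.{u + 1}) I
  have hsh : Presieve.IsSheafFor (I.obj ⋙ forget AddCommGrpCat.{u + 1}) (Presieve.singleton (aug f)) :=
    (Presieve.isSheafFor_iff_generate _).2 (((isSheaf_iff_isSheaf_of_type _ _).1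
      ((sheafCompose J (forget AddCommGrpCat.{u + 1})).obj I).2) _ hc)
  refine ⟨exactAt_cx_injective f I.obj, Presieve.isSeparatedFor_singleton.mp hsh.isSeparatedFor,
    fun x hx => ?_⟩
  obtain ⟨y, hy, -⟩ := Presieve.isSheafFor_singleton.mp hsh x fun {T} p₁ p₂ _ => by
    let c : Fin 2 → (T.left ⟶ X) := ![p₂.left ≫ prj f 0, p₁.left ≫ prj f 0]
    let t : T ⟶ (nerve f) _⦋1⦌ := intoPow f c fun i => by fin_cases i <;> exact coord_w f _ 0
    have e₁ : t ≫ (nerve f).δ (0 : Fin 2) = p₁ := hom_ext_pow f fun i => by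
      refine (Category.assoc _ _ _).trans ?_
      refine (congrArg (t.left ≫ ·) (nerve_δ_prj f 0 i)).trans ((intoPow_prj f c _ _).trans ?_)
      fin_cases i; rfl
    have e₂ : t ≫ (nerve f).δ (1 : Fin 2) = p₂ := hom_ext_pow f fun i => by
      refine (Category.assoc _ _ _).trans ?_
      refine (congrArg (t.left ≫ ·) (nerve_δ_prj f 1 i)).trans ((intoPow_prj f c _ _).trans ?_)
      fin_cases i; rfl
    rw [← e₁, ← e₂, op_comp, op_comp, Functor.map_comp, Functor.map_comp]
    exact congrArg (((I.obj ⋙ forget AddCommGrpCat.{u + 1})).map t.op) hx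
  exact ⟨y, hy⟩

end Cofree

end Groth.Agent.BigDescentSS
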