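import Groth.Agent.BigDescentSS.Big
import Groth.Agent.GabberAff13.BigDesc.Push
import Groth.Agent.HTopCov.Sheaf

/-!
# Descent spectral sequence of a proper surjective morphism for torsion sheaves

The nerve of a proper surjective morphism is a covering in the ph topology, and the ph cohomology
of a torsion sheaf from the small etale site is its etale cohomology.
-/

set_option autoImplicit false
set_option linter.style.haveILetI false
set_option backward.isDefEq.respectTransparency false
set_option backward.isDefEq.respectTransparency.types false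

universe u

open CategoryTheory CategoryTheory.Limits Opposite Simplicial AlgebraicGeometry

namespace Groth.Agent.BigDescentSS

open BigSiteLib GabberAff13.BigDesc

variable {X Y : Scheme.{u}} (f : X ⟶ Y)

theorem HU_ph_iso [BigSite.AEtCont HTop.phPrecoverage.{u} X] (n : ℕ) (F : EtCoh.Ab Y) (hF : EtCoh.IsTorsion F) :
    Nonempty (BigSite.HU HTop.phPrecoverage (piK refinedByV_ph F) n (Over.mk f) ≃+
      EtCoh.H X ((EtCoh.pull f).obj F) n) := by
  haveI := isIso_genHom etale_le_ph refinedByV_ph ((EtCoh.pull f).obj F)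
  obtain ⟨e⟩ := GabberAff13.BigDesc.H_iso (K := HTop.phPrecoverage.{u}) etale_le_ph refinedByV_ph refines_ph
    ((EtCoh.pull f).obj F) (isTorsion_pull f hF) n
  exact ⟨((bigHIso HTop.phPrecoverage n
    ((piKPullIso refinedByV_ph f F).symm ≪≫ (asIso (genHom refinedByV_ph ((EtCoh.pull f).obj F))).symm))).trans e.symm⟩

theorem HU_ph_top_iso [BigSite.AEtCont HTop.phPrecoverage.{u} Y] (n : ℕ) (F : EtCoh.Ab Y) (hF : EtCoh.IsTorsion F) :
    Nonempty (BigSite.HU HTop.phPrecoverage (piK refinedByV_ph F) n (Over.mk (𝟙 Y)) ≃+ EtCoh.H Y F n) := by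
  haveI := isIso_genHom etale_le_ph refinedByV_ph F
  obtain ⟨e⟩ := GabberAff13.BigDesc.H_iso (K := HTop.phPrecoverage.{u}) etale_le_ph refinedByV_ph refines_ph F hF n
  exact ⟨((bigHIso HTop.phPrecoverage n
    ((((HTop.phPrecoverage.toGrothendieck).overMapPullbackId AddCommGrpCat.{u + 1} Y).app (piK refinedByV_ph F)) ≪≫
      (asIso (genHom refinedByV_ph F)).symm))).trans e.symm⟩

theorem aug_mem_ph [IsProper f] [Surjective f] :
    Sieve.generate (Presieve.singleton (aug f)) ∈ QuotSh.J HTop.phPrecoverage Y (Over.mk (𝟙 Y)) := by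
  let i : X ⟶ powX f 0 := WidePullback.lift f (fun _ => 𝟙 X) fun _ => Category.id_comp f
  have hi : i ≫ powG f 0 = f :=
    WidePullback.lift_base (arrows := fun _ : Fin 1 => f) f (fun _ => 𝟙 X) fun _ => Category.id_comp f
  let T : Over Y := Over.mk (f ≫ (Over.mk (𝟙 Y)).hom)
  have hw : i ≫ powG f 0 = T.hom := hi.trans (Category.comp_id f).symm
  let j : T ⟶ (nerve f) _⦋0⦌ := Over.homMk i hw
  rw [GrothendieckTopology.mem_over_iff]
  have hm : Presieve.singleton f ∈ HTop.phPrecoverage Y := by
    rw [← PreZeroHypercover.presieve₀_singleton f]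
    exact (HTop.presieve₀_mem_phPrecoverage_iff _).2 (HTopCov.isPhCover_of_proper.{0} f)
  refine HTop.phPrecoverage.toGrothendieck.superset_covering ?_ (Precoverage.generate_mem_toGrothendieck hm)
  rw [Sieve.generate_le_iff]
  rintro _ _ ⟨⟩
  rw [Sieve.overEquiv_iff]
  exact ⟨(nerve f) _⦋0⦌, j, aug f, ⟨⟩, Over.OverMorphism.ext hi⟩

end Groth.Agent.BigDescentSS
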